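import Cfsg.Agent.Lib.AutomizerMove.Offender
import Cfsg.Agent.Lib.PLocal.PSolvable
import Cfsg.Agent.Lib.Coprime.Commutator
import Cfsg.Agent.Lib.Transfer.NormalPComplement

/-!
In a `p`-constrained `{p,q}`-group with maximal Sylow `p`-subgroup `P`, some subgroup of `O_p`
invariant under all automorphisms of `P` is normal and not centralized by the `q`-elements,
outside the cases `{p,q} = {2,3}`.
-/

set_option autoImplicit false
set_option linter.unusedSectionVars false

open Cfsg Subgroup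
open scoped IsMulCommutative

namespace Cfsg.Agent.Lib.AutomizerMove.Characteristic

variable {G : Type*} [Group G] [Finite G] {p q : ℕ} [Fact p.Prime] [Fact q.Prime]

/-- A normal subgroup which is not a `p`-group contains an element of order `q`. -/
theorem exists_orderOf_eq (hprimes : ∀ r : ℕ, r.Prime → r ∣ Nat.card G → r = p ∨ r = q)
    {N : Subgroup G} (hN : ¬ IsPGroup p ↥N) : ∃ x ∈ N, orderOf x = q := by
  by_contra hcon
  push Not at hcon
  refine hN (IsPGroup.of_card (n := (Nat.card ↥N).primeFactorsList.length) ?_)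
  refine Nat.eq_prime_pow_of_unique_prime_dvd Nat.card_pos.ne' fun {r} hr hd => ?_
  rcases hprimes r hr (hd.trans N.card_subgroup_dvd_card) with h | h
  · exact h
  · subst h
    obtain ⟨x, hx⟩ := exists_prime_orderOf_dvd_card' r hd
    exact absurd (by rw [Subgroup.orderOf_coe, hx]) (hcon x x.2)

/-- `W` is invariant under the automorphisms of `P`. -/
def Inv (P W : Subgroup G) : Prop := ∀ φ : MulAut ↥P, ∀ y : ↥P, (y : G) ∈ W → ((φ y : ↥P) : G) ∈ W

/-- An elementary abelian subgroup of `P` of largest order. -/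
def IsMax (p : ℕ) (P A : Subgroup G) : Prop :=
  A ≤ P ∧ IsElementaryAbelian p A ∧ ∀ B ≤ P, IsElementaryAbelian p B → Nat.card ↥B ≤ Nat.card ↥A

theorem exists_isMax (P : Subgroup G) : ∃ A, IsMax p P A := by
  obtain ⟨A, ⟨h1, h2⟩, h3⟩ := Set.exists_max_image {A : Subgroup G | A ≤ P ∧ IsElementaryAbelian p A}
    (fun A => Nat.card ↥A) (Set.toFinite _)
    ⟨⊥, bot_le, ⟨⟨fun a b => Subsingleton.elim _ _⟩⟩, fun x hx => by rw [mem_bot.mp hx, one_pow]⟩
  exact ⟨A, h1, h2, fun B hB hB' => h3 B ⟨hB, hB'⟩⟩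

theorem isElementaryAbelian_iff {A : Subgroup G} :
    IsElementaryAbelian p A ↔ (∀ a ∈ A, ∀ b ∈ A, a * b = b * a) ∧ ∀ a ∈ A, a ^ p = 1 := by
  constructor
  · exact fun h => ⟨fun a ha b hb => Components.Hyperplane.mem_comm h ha hb, h.2⟩
  · exact fun h => ⟨isMulCommutative_iff_of_setLike.mpr h.1, h.2⟩

theorem isElementaryAbelian_sup {A B : Subgroup G} (hA : IsElementaryAbelian p A)
    (hB : IsElementaryAbelian p B) (hAB : ∀ a ∈ A, ∀ b ∈ B, a * b = b * a) :
    IsElementaryAbelian p (A ⊔ B : Subgroup G) := by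
  have hn : B ≤ normalizer (A : Set G) :=
    le_trans (fun b hb => mem_centralizer_iff.mpr fun a ha => hAB a ha b hb) (centralizer_le_normalizer _)
  have hmem : ∀ x ∈ A ⊔ B, ∃ a ∈ A, ∃ b ∈ B, a * b = x := fun x hx => by
    obtain ⟨a, ha, b, hb, h⟩ := (Coprime.mem_sup_of_le_normalizer hn).mp hx
    exact ⟨a, ha, b, hb, h⟩
  rw [isElementaryAbelian_iff]
  rw [isElementaryAbelian_iff] at hA hB
  constructor
  · intro x hx y hy
    obtain ⟨a, ha, b, hb, rfl⟩ := hmem x hx
    obtain ⟨c, hc, d, hd, rfl⟩ := hmem y hy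
    have h1 : Commute a c := hA.1 a ha c hc
    have h2 : Commute a d := hAB a ha d hd
    have h3 : Commute b c := (hAB c hc b hb).symm
    have h4 : Commute b d := hB.1 b hb d hd
    exact ((h1.mul_right h2).mul_left (h3.mul_right h4)).eq
  · intro x hx
    obtain ⟨a, ha, b, hb, rfl⟩ := hmem x hx
    rw [(show Commute a b from hAB a ha b hb).mul_pow, hA.2 a ha, hB.2 b hb, one_mul]

/-- The main step: a proper normal invariant subgroup of `O_p` can be enlarged. -/
theorem exists_larger (h23 : p = 2 → q ≠ 3) (hpq : p ≠ q) (hsol : IsPSolvable p G)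
    (P : Sylow p G) (hmax : ∀ L : Subgroup G, (P : Subgroup G) < L → L = ⊤)
    (hprimes : ∀ r : ℕ, r.Prime → r ∣ Nat.card G → r = p ∨ r = q) (hqd : q ∣ Nat.card G)
    (hC : centralizer (pCore p G : Set G) ≤ pCore p G)
    (W : Subgroup G) [W.Normal] (hWH : W < pCore p G) (hWinv : Inv (P : Subgroup G) W)
    (hWc : ∀ x : G, orderOf x = q → ∀ w ∈ W, w * x = x * w) :
    ∃ W' : Subgroup G, W < W' ∧ W' ≤ pCore p G ∧ W'.Normal ∧ Inv (P : Subgroup G) W' := by
  classical
  have hp : p.Prime := Fact.out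
  have hq : q.Prime := Fact.out
  set π := QuotientGroup.mk' W with hπdef
  have hπs : Function.Surjective π := QuotientGroup.mk'_surjective W
  have hπker : π.ker = W := QuotientGroup.ker_mk' W
  have hWp : IsPGroup p ↥W := PLocal.Cores.isPGroup_pCore.to_le hWH.le
  set P' : Subgroup (G ⧸ W) := (P : Subgroup G).map π with hP'def
  have hP'p : IsPGroup p ↥P' := P.2.map π
  have hWP : W ≤ (P : Subgroup G) := hWH.le.trans (PLocal.Cores.pCore_le_sylow P)
  have hcomapP : P'.comap π = (P : Subgroup G) := by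
    rw [hP'def, comap_map_eq, hπker, sup_eq_left.mpr hWP]
  have hmax' : ∀ L : Subgroup (G ⧸ W), P' ≤ L → ¬ L ≤ P' → L = ⊤ := by
    intro L h1 h2
    have h3 : (P : Subgroup G) < L.comap π := by
      rw [← hcomapP]
      exact lt_of_le_of_ne (comap_mono h1) fun e => h2 (comap_injective hπs e).ge
    exact comap_injective hπs ((hmax _ h3).trans (comap_top π).symm)
  set H' := pCore p (G ⧸ W) with hH'def
  have hker : IsPGroup p ↥π.ker := by rw [hπker]; exact hWp
  have hmapH : (pCore p G).map π = H' := PLocal.Cores.map_pCore_of_ker_isPGroup hπs hker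
  have hcomapH : H'.comap π = pCore p G := by
    rw [← hmapH, comap_map_eq, hπker, sup_eq_left.mpr hWH.le]
  have hH'P : H' ≤ P' := by rw [← hmapH]; exact map_mono (PLocal.Cores.pCore_le_sylow P)
  have hH'ne : H' ≠ ⊥ := fun h => by
    rw [h, MonoidHom.comap_bot, hπker] at hcomapH; exact hWH.ne hcomapH
  have hH'n : H'.Normal := inferInstance
  -- `C(H') ≤ H'`
  have hC' : centralizer (H' : Set (G ⧸ W)) ≤ H' := by
    have : (centralizer (H' : Set (G ⧸ W))).Normal := normal_centralizer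
    by_cases hCp : IsPGroup p ↥((centralizer (H' : Set (G ⧸ W))).comap π)
    · have h := PLocal.Cores.le_pCore hCp
      rw [← hcomapH] at h
      exact (comap_le_comap_of_surjective hπs).mp h
    · exfalso
      obtain ⟨x, hx, hxq⟩ := exists_orderOf_eq hprimes hCp
      have hxC : x ∈ centralizer (pCore p G : Set G) := by
        have h1 : zpowers x ≤ centralizer (pCore p G : Set G) := by
          refine Coprime.le_centralizer_of_series (N := W) ?_ ?_ (Or.inl inferInstance) ?_ ?_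
          · exact le_normalizer_of_normal
          · rw [Nat.card_zpowers, hxq]
            obtain ⟨k, hk⟩ := (PLocal.Cores.isPGroup_pCore (p := p) (G := G)).exists_card_eq
            rw [hk]; exact ((Nat.coprime_primes hq hp).mpr hpq.symm).pow_right k
          · exact zpowers_le.mpr (mem_centralizer_iff.mpr fun w hw => hWc x hxq w hw)
          · rw [commutator_le]
            intro h hh y hy
            rw [← hπker, MonoidHom.mem_ker, commutatorElement_def]
            have hy' : π y ∈ centralizer (H' : Set (G ⧸ W)) := (zpowers_le.mpr hx) hy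
            have hh' : π h ∈ H' := hmapH ▸ mem_map_of_mem π hh
            simp only [map_mul, map_inv]
            rw [mem_centralizer_iff.mp hy' (π h) hh']
            group
        exact h1 (mem_zpowers x)
      obtain ⟨k, hk⟩ := IsPGroup.iff_orderOf.mp PLocal.Cores.isPGroup_pCore (⟨x, hC hxC⟩ : ↥(pCore p G))
      rw [← Subgroup.orderOf_coe] at hk
      change orderOf x = _ at hk
      rw [hxq] at hk
      exact hpq ((Nat.prime_dvd_prime_iff_eq hq hp).mp (hq.dvd_of_dvd_pow (dvd_of_eq hk))).symm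
  -- central elements of order `p`
  let Z : Subgroup (G ⧸ W) :=
    { carrier := {z | z ∈ P' ∧ (∀ s ∈ P', s * z = z * s) ∧ z ^ p = 1}
      one_mem' := ⟨P'.one_mem, fun s _ => by simp, one_pow p⟩
      mul_mem' := fun {a b} ha hb => ⟨P'.mul_mem ha.1 hb.1,
        fun s hs => ((show Commute s a from ha.2.1 s hs).mul_right (hb.2.1 s hs)).eq, by
          rw [(show Commute a b from hb.2.1 a ha.1).mul_pow, ha.2.2, hb.2.2, one_mul]⟩
      inv_mem' := fun {a} ha => ⟨P'.inv_mem ha.1, fun s hs => (show Commute s a from ha.2.1 s hs).inv_right.eq,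
        by rw [inv_pow, ha.2.2, inv_one]⟩ }
  have hZP : Z ≤ P' := fun z hz => hz.1
  have hZH : Z ≤ H' := fun z hz => hC' (mem_centralizer_iff.mpr fun h hh => hz.2.1 h (hH'P hh))
  have hZne : Z ≠ ⊥ := by
    intro hZ
    have : Nontrivial ↥P' := (nontrivial_iff_ne_bot P').mpr fun h => hH'ne (le_bot_iff.mp (h ▸ hH'P))
    have := hP'p.center_nontrivial
    have hd : p ∣ Nat.card ↥(center ↥P') := by
      obtain ⟨k, hk⟩ := (hP'p.to_subgroup (center ↥P')).exists_card_eq
      rcases k with _ | k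
      · exact absurd (by simpa using hk) (Finite.one_lt_card (α := ↥(center ↥P'))).ne'
      · rw [hk, pow_succ]; exact dvd_mul_left _ _
    obtain ⟨z, hz⟩ := exists_prime_orderOf_dvd_card' p hd
    rw [← Subgroup.orderOf_coe, ← Subgroup.orderOf_coe] at hz
    have hzZ : ((z : ↥P') : G ⧸ W) ∈ Z := ⟨(z : ↥P').2, fun s hs =>
      congrArg Subtype.val (mem_center_iff.mp z.2 ⟨s, hs⟩), by rw [← hz]; exact pow_orderOf_eq_one _⟩
    rw [hZ, mem_bot] at hzZ
    rw [hzZ, orderOf_one] at hz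
    exact hp.one_lt.ne hz
  have hlt : ∀ K : Subgroup (G ⧸ W), K ≠ ⊥ → W < K.comap π := fun K hK =>
    lt_of_le_of_ne (hπker.symm.le.trans (ker_le_comap π K)) fun e => hK (comap_injective hπs (by
      rw [← e, MonoidHom.comap_bot, hπker]))
  by_cases hZn : Z.Normal
  · refine ⟨Z.comap π, hlt Z hZne, hcomapH ▸ comap_mono hZH, inferInstance, ?_⟩
    intro φ y hy
    obtain ⟨-, hyc, hyp⟩ := (mem_comap.mp hy : π (y : G) ∈ Z)
    have hW' : ∀ w : ↥(P : Subgroup G), π (w : G) = 1 → π ((φ w : ↥(P : Subgroup G)) : G) = 1 := by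
      intro w hw
      rw [← MonoidHom.mem_ker, hπker] at hw ⊢
      exact hWinv φ w hw
    refine ⟨mem_map_of_mem π (φ y).2, ?_, ?_⟩
    · rintro _ ⟨s, hs, rfl⟩
      have h1 := hW' (φ.symm ⟨s, hs⟩ * y * (y * φ.symm ⟨s, hs⟩)⁻¹) (by
        push_cast
        rw [map_mul, map_inv, map_mul, map_mul, hyc _ (mem_map_of_mem π (φ.symm ⟨s, hs⟩).2), mul_inv_cancel])
      simp only [map_mul, map_inv, MulEquiv.apply_symm_apply] at h1
      push_cast at h1
      simp only [map_mul, map_inv, mul_inv_eq_one] at h1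
      exact h1
    · have h1 := hW' (y ^ p) (by push_cast; rw [map_pow]; exact hyp)
      rw [map_pow] at h1
      push_cast at h1
      rwa [map_pow] at h1
  -- `V` and the action of `R`
  set V := normalClosure (Z : Set (G ⧸ W)) with hVdef
  have hVH : V ≤ H' := normalClosure_le_normal hZH
  have hVcH : ∀ v ∈ V, ∀ h ∈ H', h * v = v * h := by
    have h1 : V ≤ centralizer (H' : Set (G ⧸ W)) := by
      have : (centralizer (H' : Set (G ⧸ W))).Normal := normal_centralizer
      exact normalClosure_le_normal fun z hz => mem_centralizer_iff.mpr fun h hh => hz.2.1 h (hH'P hh)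
    exact fun v hv h hh => mem_centralizer_iff.mp (h1 hv) h hh
  have hVcom : IsMulCommutative ↥V :=
    isMulCommutative_iff_of_setLike.mpr fun a ha b hb => (hVcH a ha b (hVH hb)).symm
  have hVel : IsElementaryAbelian p V := by
    refine ⟨hVcom, fun v hv => ?_⟩
    rw [hVdef, normalClosure] at hv
    induction hv using closure_induction with
    | mem x hx =>
      obtain ⟨z, hz, hzx⟩ := Group.mem_conjugatesOfSet_iff.mp hx
      obtain ⟨c, rfl⟩ := isConj_iff.mp hzx
      rw [conj_pow, hz.2.2, mul_one, mul_inv_cancel]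
    | one => exact one_pow p
    | mul x y hx hy hx' hy' =>
      rw [(show Commute x y from hVcH y hy x (hVH hx)).mul_pow, hx', hy', one_mul]
    | inv x hx hx' => rw [inv_pow, hx', inv_one]
  have hVn : V.Normal := normalClosure_normal
  have hCV : centralizer (V : Set (G ⧸ W)) = H' := by
    refine le_antisymm ?_ fun h hh => mem_centralizer_iff.mpr fun v hv => (hVcH v hv h hh).symm
    have : (centralizer (V : Set (G ⧸ W))).Normal := normal_centralizer
    by_cases hle : centralizer (V : Set (G ⧸ W)) ≤ P'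
    · exact PLocal.Cores.le_pCore (hP'p.to_le hle)
    · exfalso
      have htop := hmax' (P' ⊔ centralizer (V : Set (G ⧸ W))) le_sup_left fun h => hle (le_sup_right.trans h)
      refine hZn ⟨fun z hz g => ?_⟩
      obtain ⟨s, hs, c, hc, rfl⟩ := mem_sup_of_normal_right.mp (htop.symm ▸ mem_top g)
      have h1 : c * z * c⁻¹ = z := by
        rw [← mem_centralizer_iff.mp hc z (subset_normalClosure hz), mul_inv_cancel_right]
      have h2 : s * z * s⁻¹ = z := by rw [hz.2.1 s hs, mul_inv_cancel_right]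
      rw [show s * c * z * (s * c)⁻¹ = s * (c * z * c⁻¹) * s⁻¹ by group, h1, h2]
      exact hz
  set ρ := QuotientGroup.mk' H' with hρdef
  have hρs : Function.Surjective ρ := QuotientGroup.mk'_surjective H'
  let ψ : G ⧸ W →* MulAut ↥V := MulAut.conjNormal
  have hψker : ∀ g, ψ g = 1 ↔ g ∈ H' := by
    intro g
    rw [← hCV]
    constructor
    · intro h
      refine mem_centralizer_iff.mpr fun v hv => ?_
      have h1 : g * v * g⁻¹ = v := by
        simpa [ψ] using congrArg (fun e : MulAut ↥V => ((e ⟨v, hv⟩ : ↥V) : G ⧸ W)) h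
      exact (mul_inv_eq_iff_eq_mul.mp h1).symm
    · intro h
      refine MulEquiv.ext fun v => Subtype.ext ?_
      simp only [ψ, MulAut.conjNormal_apply, MulAut.one_apply]
      rw [← mem_centralizer_iff.mp h v v.2, mul_inv_cancel_right]
  let φ : (G ⧸ W) ⧸ H' →* MulAut ↥V := QuotientGroup.lift H' ψ fun g hg => (hψker g).mpr hg
  have hφinj : ∀ r, φ r = 1 → r = 1 := by
    intro r hr
    obtain ⟨g, rfl⟩ := hρs r
    exact (QuotientGroup.eq_one_iff g).mpr ((hψker g).mp hr)
  -- the `q`-group `Q`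
  have hcardR : ∀ r : ℕ, r.Prime → r ∣ Nat.card ((G ⧸ W) ⧸ H') → r = p ∨ r = q := fun r hr hd =>
    hprimes r hr (hd.trans ((card_quotient_dvd_card H').trans (card_quotient_dvd_card W)))
  have hqR : q ∣ Nat.card ((G ⧸ W) ⧸ H') := by
    have h1 : ∀ {n : ℕ}, (∃ k, n = p ^ k) → ¬ q ∣ n := by
      rintro n ⟨k, rfl⟩ hd
      exact hpq ((Nat.prime_dvd_prime_iff_eq hq hp).mp (hq.dvd_of_dvd_pow hd)).symm
    rw [card_eq_card_quotient_mul_card_subgroup W, card_eq_card_quotient_mul_card_subgroup H'] at hqd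
    rcases hq.dvd_mul.mp hqd with h | h
    · rcases hq.dvd_mul.mp h with h | h
      · exact h
      · exact absurd h (h1 (PLocal.Cores.isPGroup_pCore (p := p) (G := G ⧸ W)).exists_card_eq)
    · exact absurd h (h1 hWp.exists_card_eq)
  have : Nontrivial ((G ⧸ W) ⧸ H') := Finite.one_lt_card_iff_nontrivial.mp
    (lt_of_lt_of_le hq.one_lt (Nat.le_of_dvd Nat.card_pos hqR))
  have hRsol : IsPSolvable p ((G ⧸ W) ⧸ H') :=
    PLocal.PSolvable.quotient (PLocal.PSolvable.quotient hsol W) H'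
  have hR0 : pCore p ((G ⧸ W) ⧸ H') = ⊥ := PLocal.Cores.pCore_quotient_pCore
  have hNne : pPrimeCore p ((G ⧸ W) ⧸ H') ≠ ⊥ :=
    (PLocal.PSolvable.exists_core_ne_bot hRsol).resolve_left (not_not_intro hR0)
  set N := pPrimeCore p ((G ⧸ W) ⧸ H') with hNdef
  have hNq : IsPGroup q ↥N := by
    refine IsPGroup.of_card (n := (Nat.card ↥N).primeFactorsList.length)
      (Nat.eq_prime_pow_of_unique_prime_dvd Nat.card_pos.ne' fun {r} hr hd => ?_)
    rcases hcardR r hr (hd.trans N.card_subgroup_dvd_card) with h | h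
    · exact absurd (h ▸ hd) (PLocal.Cores.not_dvd_card_pPrimeCore hp.ne_one)
    · exact h
  let Q : Subgroup ((G ⧸ W) ⧸ H') :=
    { carrier := {x | x ∈ N ∧ (∀ n ∈ N, n * x = x * n) ∧ x ^ q = 1}
      one_mem' := ⟨N.one_mem, fun s _ => by simp, one_pow q⟩
      mul_mem' := fun {a b} ha hb => ⟨N.mul_mem ha.1 hb.1,
        fun s hs => ((show Commute s a from ha.2.1 s hs).mul_right (hb.2.1 s hs)).eq, by
          rw [(show Commute a b from hb.2.1 a ha.1).mul_pow, ha.2.2, hb.2.2, one_mul]⟩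
      inv_mem' := fun {a} ha => ⟨N.inv_mem ha.1, fun s hs => (show Commute s a from ha.2.1 s hs).inv_right.eq,
        by rw [inv_pow, ha.2.2, inv_one]⟩ }
  have hQn : Q.Normal := ⟨fun x hx g => by
    have hNn : N.Normal := inferInstance
    refine ⟨hNn.conj_mem x hx.1 g, fun n hn => ?_, by rw [conj_pow, hx.2.2, mul_one, mul_inv_cancel]⟩
    have h := hx.2.1 _ (hNn.conj_mem n hn g⁻¹)
    calc n * (g * x * g⁻¹) = g * (g⁻¹ * n * g⁻¹⁻¹ * x) * g⁻¹ := by group
      _ = g * (x * (g⁻¹ * n * g⁻¹⁻¹)) * g⁻¹ := by rw [h]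
      _ = g * x * g⁻¹ * n := by group⟩
  have hQne : Q ≠ ⊥ := by
    intro hQ
    have : Nontrivial ↥N := (nontrivial_iff_ne_bot N).mpr hNne
    have := hNq.center_nontrivial
    have hd : q ∣ Nat.card ↥(center ↥N) := by
      obtain ⟨k, hk⟩ := (hNq.to_subgroup (center ↥N)).exists_card_eq
      rcases k with _ | k
      · exact absurd (by simpa using hk) (Finite.one_lt_card (α := ↥(center ↥N))).ne'
      · rw [hk, pow_succ]; exact dvd_mul_left _ _
    obtain ⟨z, hz⟩ := exists_prime_orderOf_dvd_card' q hd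
    rw [← Subgroup.orderOf_coe, ← Subgroup.orderOf_coe] at hz
    have hzQ : ((z : ↥N) : (G ⧸ W) ⧸ H') ∈ Q := ⟨(z : ↥N).2, fun s hs =>
      congrArg Subtype.val (mem_center_iff.mp z.2 ⟨s, hs⟩), by rw [← hz]; exact pow_orderOf_eq_one _⟩
    rw [hQ, mem_bot] at hzQ
    rw [hzQ, orderOf_one] at hz
    exact hq.one_lt.ne hz
  have hQp : ¬ p ∣ Nat.card ↥Q := fun h =>
    PLocal.Cores.not_dvd_card_pPrimeCore hp.ne_one (h.trans (card_dvd_of_le fun x hx => hx.1))
  set PR := P'.map ρ with hPR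
  have hQP : PR ⊔ Q = ⊤ := by
    have h1 := hmax' ((PR ⊔ Q).comap ρ) (fun x hx => mem_comap.mpr (mem_sup_left (mem_map_of_mem ρ hx)))
      fun h => hQne (le_bot_iff.mp fun x hx => ?_)
    · rw [← map_comap_eq_self_of_surjective hρs (PR ⊔ Q), h1, map_top_of_surjective ρ hρs]
    · obtain ⟨g, rfl⟩ := hρs x
      have hxP : ρ g ∈ PR := mem_map_of_mem ρ (h (mem_comap.mpr (mem_sup_right hx)))
      obtain ⟨k, hk⟩ := IsPGroup.iff_orderOf.mp (hP'p.map ρ) ⟨_, hxP⟩
      rw [← Subgroup.orderOf_coe] at hk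
      rw [mem_bot]
      exact orderOf_eq_one_iff.mp (Nat.eq_one_of_dvd_coprimes
        (((Nat.coprime_primes hp hq).mpr hpq).pow_left k) (dvd_of_eq hk) (orderOf_dvd_of_pow_eq_one hx.2.2))
  have hfaith : ∀ a ∈ PR, (∀ u ∈ Q, a * u * a⁻¹ * u⁻¹ = 1) → a = 1 := by
    intro a ha hau
    have hCQ : (centralizer (Q : Set ((G ⧸ W) ⧸ H'))).Normal := normal_centralizer
    have hDn : (centralizer (Q : Set ((G ⧸ W) ⧸ H')) ⊓ PR).Normal := by
      refine ⟨fun d hd g => ?_⟩
      obtain ⟨s, hs, u, hu, rfl⟩ := mem_sup_of_normal_right.mp (hQP.symm ▸ mem_top g)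
      have h1 : u * d * u⁻¹ = d := by rw [mem_centralizer_iff.mp hd.1 u hu, mul_inv_cancel_right]
      rw [show s * u * d * (s * u)⁻¹ = s * (u * d * u⁻¹) * s⁻¹ by group, h1]
      exact ⟨hCQ.conj_mem d hd.1 s, PR.mul_mem (PR.mul_mem hs hd.2) (PR.inv_mem hs)⟩
    have h := PLocal.Cores.le_pCore (p := p) ((hP'p.map ρ).to_le (inf_le_right : centralizer (Q : Set ((G ⧸ W) ⧸ H')) ⊓ PR ≤ PR))
    rw [hR0] at h
    refine mem_bot.mp (h ⟨mem_centralizer_iff.mpr fun u hu => ?_, ha⟩)
    exact (mul_inv_eq_iff_eq_mul.mp (mul_inv_eq_one.mp (hau u hu))).symm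
  -- elementary abelian subgroups of largest order lie in `H'`
  have hAH : ∀ A, IsMax p P' A → A ≤ H' := by
    rintro A ⟨hAP, hAel, hAmax⟩
    by_contra hAH
    set Ā := A.map ρ with hĀ
    have hĀel : IsElementaryAbelian p Ā := by
      rw [isElementaryAbelian_iff] at hAel ⊢
      constructor
      · rintro _ ⟨a, ha, rfl⟩ _ ⟨b, hb, rfl⟩
        rw [← map_mul, hAel.1 a ha b hb, map_mul]
      · rintro _ ⟨a, ha, rfl⟩
        rw [← map_pow, hAel.2 a ha, map_one]
    have D : Offender.Data φ p q Ā Q :=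
      ⟨hĀel, fun x hx y hy => hy.2.1 x hx.1, fun x hx => hx.2.2, hQp, le_normalizer_of_normal,
        fun v => Subtype.ext (by simpa using hVel.2 v v.2)⟩
    have hST : Offender.Invariant φ Q (⊤ : Subgroup ↥V) := fun _ _ _ _ => mem_top _
    have hkA : D.kerA ⊤ hST = ⊥ := by
      refine eq_bot_iff.mpr fun a ha => mem_bot.mpr (hfaith a (map_mono hAP ha.1) fun u hu => ?_)
      exact hφinj _ (MulEquiv.ext fun v => ha.2 u hu v (mem_top v))
    have hĀne : Ā ≠ ⊥ := by
      intro h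
      refine hAH fun a ha => ?_
      have := mem_map_of_mem ρ ha
      rw [← hĀ, h, mem_bot] at this
      exact (QuotientGroup.eq_one_iff a).mp this
    obtain ⟨-, hlt'⟩ := Offender.no_offender hpq h23 D ⊤ (fun _ _ _ _ => mem_top _) hST
    have hlt := hlt' (by rw [hkA]; exact hĀne.symm)
    rw [hkA, relIndex_bot_left, card_top] at hlt
    -- compare with `(A ⊓ H') ⊔ V`
    set A0 := A ⊓ H' with hA0
    have hA'el : IsElementaryAbelian p (A0 ⊔ V : Subgroup (G ⧸ W)) := isElementaryAbelian_sup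
      (Components.Hyperplane.isElementaryAbelian_of_le hAel inf_le_left) hVel
      fun a ha v hv => hVcH v hv a ha.2
    have hA'le : Nat.card ↥(A0 ⊔ V) ≤ Nat.card ↥A :=
      hAmax _ (sup_le (inf_le_left.trans hAP) (hVH.trans hH'P)) hA'el
    have hcardA : Nat.card ↥A = Nat.card ↥A0 * Nat.card ↥Ā := by
      rw [PLocal.Cores.card_eq_card_inf_ker_mul_card_map A ρ, QuotientGroup.ker_mk']
    have hcardS : Nat.card ↥(A0 ⊔ V) * Nat.card ↥(A0 ⊓ V) = Nat.card ↥A0 * Nat.card ↥V := by
      have h1 := relIndex_mul_relIndex _ _ _ (bot_le : ⊥ ≤ V) (le_sup_right : V ≤ A0 ⊔ V)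
      have h2 := relIndex_mul_relIndex _ _ _ (bot_le : ⊥ ≤ A0 ⊓ V) (inf_le_left : A0 ⊓ V ≤ A0)
      rw [relIndex_bot_left, relIndex_bot_left, relIndex_sup_right] at h1
      rw [relIndex_bot_left, relIndex_bot_left, inf_relIndex_left] at h2
      rw [← h1, ← h2]; ring
    have hfix : Nat.card ↥(A0 ⊓ V) ≤ Nat.card ↥(Offender.fix φ Ā ⊤) := by
      refine Nat.card_le_card_of_injective (fun x => ⟨⟨(x : G ⧸ W), x.2.2⟩, mem_top _, ?_⟩) fun x y h => ?_
      · rintro _ ⟨a, ha, rfl⟩
        refine Subtype.ext ?_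
        change a * (x : G ⧸ W) * a⁻¹ = (x : G ⧸ W)
        rw [Components.Hyperplane.mem_comm hAel ha x.2.1.1, mul_inv_cancel_right]
      · exact Subtype.ext (congrArg (fun t : ↥(Offender.fix φ Ā ⊤) => ((t : ↥V) : G ⧸ W)) h)
    have h3 : Nat.card ↥A0 * Nat.card ↥V ≤ Nat.card ↥A0 * (Nat.card ↥Ā * Nat.card ↥(Offender.fix φ Ā ⊤)) := by
      rw [← hcardS, ← mul_assoc, ← hcardA]
      exact Nat.mul_le_mul hA'le hfix
    exact absurd (Nat.le_of_mul_le_mul_left h3 Nat.card_pos) (not_le.mpr hlt)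
  set J : Subgroup (G ⧸ W) := ⨆ A : {A // IsMax p P' A}, (A : Subgroup (G ⧸ W)) with hJdef
  have hJH : J ≤ H' := iSup_le fun A => hAH _ A.2
  have hJne : J ≠ ⊥ := by
    obtain ⟨A, hA⟩ := exists_isMax (p := p) P'
    have hZA : Z ≤ A := by
      have hZel : IsElementaryAbelian p Z :=
        isElementaryAbelian_iff.mpr ⟨fun a ha b hb => hb.2.1 a ha.1, fun a ha => ha.2.2⟩
      have h := isElementaryAbelian_sup hA.2.1 hZel fun a ha z hz => hz.2.1 a (hA.1 ha)
      have he := eq_of_le_of_card_ge (le_sup_left : A ≤ A ⊔ Z) (hA.2.2 _ (sup_le hA.1 hZP) h)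
      rw [he]; exact le_sup_right
    intro h
    exact hZne (le_bot_iff.mp (h ▸ hZA.trans (le_iSup (fun A : {A // IsMax p P' A} => (A : Subgroup (G ⧸ W))) ⟨A, hA⟩)))
  have hJn : J.Normal := by
    refine ⟨fun x hx g => ?_⟩
    have hle : J.map (MulAut.conj g).toMonoidHom ≤ J := by
      rw [hJdef, Subgroup.map_iSup]
      refine iSup_le fun A => ?_
      refine le_iSup_of_le ⟨(A : Subgroup (G ⧸ W)).map (MulAut.conj g).toMonoidHom, ?_, ?_, ?_⟩ le_rfl
      · rintro _ ⟨a, ha, rfl⟩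
        exact hH'P (hH'n.conj_mem a (hAH _ A.2 ha) g)
      · have hel := isElementaryAbelian_iff.mp A.2.2.1
        refine isElementaryAbelian_iff.mpr ⟨?_, ?_⟩
        · rintro _ ⟨a, ha, rfl⟩ _ ⟨b, hb, rfl⟩
          rw [← map_mul, hel.1 a ha b hb, map_mul]
        · rintro _ ⟨a, ha, rfl⟩
          rw [← map_pow, hel.2 a ha, map_one]
      · intro B hB hB'
        rw [card_map_of_injective (MulAut.conj g).injective]
        exact A.2.2.2 B hB hB'
    exact hle ⟨x, hx, rfl⟩
  refine ⟨J.comap π, hlt J hJne, hcomapH ▸ comap_mono hJH, inferInstance, ?_⟩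
  intro α y hy
  let f : ↥(P : Subgroup G) →* G ⧸ W := π.comp (P : Subgroup G).subtype
  let g : ↥(P : Subgroup G) →* G ⧸ W := f.comp α.toMonoidHom
  have hfr : f.range = P' := by rw [MonoidHom.range_comp, range_subtype]
  have hkfg : f.ker = g.ker := by
    ext w
    change π (w : G) = 1 ↔ π ((α w : ↥(P : Subgroup G)) : G) = 1
    rw [← MonoidHom.mem_ker, ← MonoidHom.mem_ker, hπker]
    exact ⟨hWinv α w, fun h => by simpa using hWinv α.symm (α w) h⟩
  have hJf : J = (⨆ A : {A // IsMax p P' A}, (A : Subgroup (G ⧸ W)).comap f).map f := by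
    rw [hJdef, Subgroup.map_iSup]
    refine iSup_congr fun A => ?_
    rw [map_comap_eq, hfr, inf_eq_right.mpr A.2.1]
  have hy' : f y ∈ J := hy
  rw [hJf] at hy'
  obtain ⟨z, hz, hzy⟩ := hy'
  change g y ∈ J
  have hgy : g y = g z := by
    have h1 : z⁻¹ * y ∈ g.ker := by
      rw [← hkfg, MonoidHom.mem_ker, map_mul, map_inv, hzy, inv_mul_cancel]
    rw [MonoidHom.mem_ker, map_mul, map_inv, inv_mul_eq_one] at h1
    exact h1.symm
  rw [hgy]
  have hgle : (⨆ A : {A // IsMax p P' A}, (A : Subgroup (G ⧸ W)).comap f).map g ≤ J := by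
    rw [Subgroup.map_iSup]
    refine iSup_le fun A => ?_
    refine le_iSup_of_le ⟨((A : Subgroup (G ⧸ W)).comap f).map g, ?_, ?_, ?_⟩ le_rfl
    · rintro _ ⟨w, -, rfl⟩
      exact mem_map_of_mem π (α w).2
    · have hel := isElementaryAbelian_iff.mp A.2.2.1
      refine isElementaryAbelian_iff.mpr ⟨?_, ?_⟩
      · rintro _ ⟨a, ha, rfl⟩ _ ⟨b, hb, rfl⟩
        have h1 : a * b * (b * a)⁻¹ ∈ g.ker := by
          rw [← hkfg, MonoidHom.mem_ker, map_mul, map_inv, map_mul, map_mul, hel.1 _ ha _ hb, mul_inv_cancel]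
        rw [MonoidHom.mem_ker, map_mul, map_inv, mul_inv_eq_one, map_mul, map_mul] at h1
        exact h1
      · rintro _ ⟨a, ha, rfl⟩
        have h1 : a ^ p ∈ g.ker := by rw [← hkfg, MonoidHom.mem_ker, map_pow]; exact hel.2 _ ha
        rw [MonoidHom.mem_ker, map_pow] at h1
        exact h1
    · intro B hB hB'
      refine (A.2.2.2 B hB hB').trans (le_of_eq ?_)
      calc Nat.card ↥(A : Subgroup (G ⧸ W))
          = Nat.card ↥(((A : Subgroup (G ⧸ W)).comap f).map f) := by
            rw [map_comap_eq, hfr, inf_eq_right.mpr A.2.1]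
        _ = g.ker.relIndex ((A : Subgroup (G ⧸ W)).comap f) := by rw [← hkfg, relIndex_ker]
        _ = _ := by rw [relIndex_ker]
  exact hgle (mem_map_of_mem g hz)

/-- The conclusion. -/
theorem exists_inv_normal_not_centralized (h23 : p = 2 → q ≠ 3) (hpq : p ≠ q) (hsol : IsPSolvable p G)
    (P : Sylow p G) (hmax : ∀ L : Subgroup G, (P : Subgroup G) < L → L = ⊤)
    (hprimes : ∀ r : ℕ, r.Prime → r ∣ Nat.card G → r = p ∨ r = q) (hqd : q ∣ Nat.card G)
    (hC : centralizer (pCore p G : Set G) ≤ pCore p G) :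
    ∃ W : Subgroup G, W ≤ pCore p G ∧ W.Normal ∧ Inv (P : Subgroup G) W ∧
      ∃ x : G, orderOf x = q ∧ ∃ w ∈ W, w * x ≠ x * w := by
  by_contra hcon
  push Not at hcon
  obtain ⟨W, ⟨hW1, hW2, hW3⟩, hWmax⟩ := Set.exists_max_image
    {W : Subgroup G | W ≤ pCore p G ∧ W.Normal ∧ Inv (P : Subgroup G) W} (fun W => Nat.card ↥W)
    (Set.toFinite _) ⟨⊥, bot_le, inferInstance, fun φ y hy => by
      rw [mem_bot] at hy ⊢
      rw [show y = 1 from Subtype.ext hy, map_one, OneMemClass.coe_one]⟩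
  have hWc : ∀ x : G, orderOf x = q → ∀ w ∈ W, w * x = x * w := fun x hx w hw =>
    hcon W hW1 hW2 hW3 x hx w hw
  have hne : W ≠ pCore p G := by
    intro h
    obtain ⟨x, hx⟩ := exists_prime_orderOf_dvd_card' q hqd
    have hxC : x ∈ pCore p G := hC (mem_centralizer_iff.mpr fun w hw => hWc x hx w (h ▸ hw))
    obtain ⟨k, hk⟩ := IsPGroup.iff_orderOf.mp PLocal.Cores.isPGroup_pCore (⟨x, hxC⟩ : ↥(pCore p G))
    rw [← Subgroup.orderOf_coe] at hk
    change orderOf x = _ at hk
    rw [hx] at hk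
    exact hpq ((Nat.prime_dvd_prime_iff_eq Fact.out Fact.out).mp
      ((Fact.out : q.Prime).dvd_of_dvd_pow (dvd_of_eq hk))).symm
  obtain ⟨W', hlt, hle, hn, hinv⟩ := @exists_larger _ _ _ p q _ _ h23 hpq hsol P hmax hprimes hqd hC W hW2
    (lt_of_le_of_ne hW1 hne) hW3 hWc
  exact hlt.ne (eq_of_le_of_card_ge hlt.le (hWmax W' ⟨hle, hn, hinv⟩))

end Cfsg.Agent.Lib.AutomizerMove.Characteristic
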