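import Cfsg.Agent.Lib.Components.Hyperplane
import Mathlib.GroupTheory.PGroup
import Mathlib.Algebra.BigOperators.Intervals

/-!
An elementary abelian `p`-group normalizing an abelian group of exponent prime to `p` has no
offender on a module of characteristic `p`, outside the case `p = 2`, exponent `3`.
-/

set_option autoImplicit false
set_option linter.unusedSectionVars false

namespace Cfsg.Agent.Lib.AutomizerMove.Offender

open Subgroup

variable {R V : Type*} [Group R] [CommGroup V] {φ : R →* MulAut V} {p q : ℕ}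

/-- Elements acting trivially on `S`. -/
def ker (φ : R →* MulAut V) (S : Subgroup V) : Subgroup R where
  carrier := {r | ∀ s ∈ S, φ r s = s}
  one_mem' := fun s _ => by simp
  mul_mem' := fun {a b} ha hb s hs => by rw [map_mul, MulAut.mul_apply, hb s hs, ha s hs]
  inv_mem' := fun {a} ha s hs => by
    conv_lhs => rw [← ha s hs]
    rw [← MulAut.mul_apply, ← map_mul, inv_mul_cancel, map_one, MulAut.one_apply]

/-- The fixed points of `K` in `S`. -/
def fix (φ : R →* MulAut V) (K : Subgroup R) (S : Subgroup V) : Subgroup V where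
  carrier := {s | s ∈ S ∧ ∀ r ∈ K, φ r s = s}
  one_mem' := ⟨S.one_mem, fun r _ => map_one _⟩
  mul_mem' := fun {a b} ha hb => ⟨S.mul_mem ha.1 hb.1, fun r hr => by rw [map_mul, ha.2 r hr, hb.2 r hr]⟩
  inv_mem' := fun {a} ha => ⟨S.inv_mem ha.1, fun r hr => by rw [map_inv, ha.2 r hr]⟩

theorem fix_le (K : Subgroup R) (S : Subgroup V) : fix φ K S ≤ S := fun _ h => h.1

def Invariant (φ : R →* MulAut V) (K : Subgroup R) (S : Subgroup V) : Prop := ∀ r ∈ K, ∀ s ∈ S, φ r s ∈ S

theorem apply_apply (r t : R) (v : V) : φ r (φ t v) = φ (r * t) v := by rw [map_mul, MulAut.mul_apply]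

/-- The standing hypotheses. -/
structure Data (φ : R →* MulAut V) (p q : ℕ) (A Q : Subgroup R) : Prop where
  hA : Cfsg.IsElementaryAbelian p A
  hQc : ∀ x ∈ Q, ∀ y ∈ Q, x * y = y * x
  hQe : ∀ x ∈ Q, x ^ q = 1
  hQp : ¬ p ∣ Nat.card ↥Q
  hAQ : A ≤ normalizer (Q : Set R)
  hV : ∀ v : V, v ^ p = 1

namespace Data

variable {A Q : Subgroup R} (D : Data φ p q A Q)
include D

theorem conj_mem {a u : R} (ha : a ∈ A) (hu : u ∈ Q) : a * u * a⁻¹ ∈ Q :=
  (mem_normalizer_iff.mp (D.hAQ ha) u).mp hu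

theorem com_mem {a u : R} (ha : a ∈ A) (hu : u ∈ Q) : a * u * a⁻¹ * u⁻¹ ∈ Q :=
  Q.mul_mem (D.conj_mem ha hu) (Q.inv_mem hu)

theorem com_mul {a u v : R} (ha : a ∈ A) (hu : u ∈ Q) (hv : v ∈ Q) :
    a * (u * v) * a⁻¹ * (u * v)⁻¹ = (a * u * a⁻¹ * u⁻¹) * (a * v * a⁻¹ * v⁻¹) := by
  rw [D.hQc (a * u * a⁻¹ * u⁻¹) (D.com_mem ha hu) _ (D.com_mem ha hv)]
  calc a * (u * v) * a⁻¹ * (u * v)⁻¹ = (a * u * a⁻¹) * ((a * v * a⁻¹ * v⁻¹) * u⁻¹) := by group
    _ = (a * u * a⁻¹) * (u⁻¹ * (a * v * a⁻¹ * v⁻¹)) := by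
        rw [D.hQc _ (D.com_mem ha hv) _ (Q.inv_mem hu)]
    _ = (a * u * a⁻¹ * u⁻¹) * (a * v * a⁻¹ * v⁻¹) := by group
    _ = _ := D.hQc _ (D.com_mem ha hu) _ (D.com_mem ha hv)

theorem mono {B : Subgroup R} (h : B ≤ A) : Data φ p q B Q :=
  ⟨Components.Hyperplane.isElementaryAbelian_of_le D.hA h, D.hQc, D.hQe, D.hQp, h.trans D.hAQ, D.hV⟩

/-- The elements of `A` commuting with the action of `Q` on `S`. -/
def kerA (S : Subgroup V) (_hSQ : Invariant φ Q S) : Subgroup R where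
  carrier := {a | a ∈ A ∧ ∀ u ∈ Q, a * u * a⁻¹ * u⁻¹ ∈ ker φ S}
  one_mem' := ⟨A.one_mem, fun u _ => by simp⟩
  mul_mem' := fun {a b} ha hb => ⟨A.mul_mem ha.1 hb.1, fun u hu => by
    have h1 := hb.2 u hu
    have h2 := ha.2 (b * u * b⁻¹) (D.conj_mem hb.1 hu)
    have h3 := (ker φ S).mul_mem h2 h1
    convert h3 using 1
    group⟩
  inv_mem' := fun {a} ha => ⟨A.inv_mem ha.1, fun u hu => by
    have h1 := ha.2 (a⁻¹ * u * a⁻¹⁻¹) (D.conj_mem (A.inv_mem ha.1) hu)
    have h2 := (ker φ S).inv_mem h1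
    convert h2 using 1
    group⟩

end Data

/-- The key inequality on a space where `U` has no fixed points. -/
theorem mul_card_fix_lt [Finite R] [Finite V] [hp : Fact p.Prime] [hq : Fact q.Prime] (hpq : p ≠ q)
    (h23 : p = 2 → q ≠ 3) (hV : ∀ v : V, v ^ p = 1)
    {a : R} (hap : a ^ p = 1) {U : Subgroup R} (hUq : ∀ u ∈ U, u ^ q = 1)
    (hUc : ∀ x ∈ U, ∀ y ∈ U, x * y = y * x)
    (haU : ∀ u ∈ U, a * u * a⁻¹ ∈ U) (hfree : ∀ u ∈ U, a * u * a⁻¹ = u → u = 1)
    {Y : Subgroup V} (hY : Y ≠ ⊥) (hUY : Invariant φ U Y) (haY : ∀ y ∈ Y, φ a y ∈ Y)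
    (hfix : ∀ y ∈ Y, (∀ u ∈ U, φ u y = y) → y = 1) :
    p * Nat.card ↥(fix φ (zpowers a) Y) < Nat.card ↥Y := by
  classical
  have : Fintype ↥U := Fintype.ofFinite _
  have hp' := hp.out
  let T : ↥Y →* V :=
    { toFun := fun y => φ a (y : V) * (y : V)⁻¹
      map_one' := by simp
      map_mul' := fun x y => by
        simp only [Subgroup.coe_mul, map_mul, mul_inv]
        exact mul_mul_mul_comm _ _ _ _ }
  have hfixker : Nat.card ↥(fix φ (zpowers a) Y) = Nat.card ↥T.ker := by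
    refine Nat.card_congr
      { toFun := fun y => ⟨⟨y, y.2.1⟩, by
          change φ a (y : V) * (y : V)⁻¹ = 1
          rw [y.2.2 a (mem_zpowers a), mul_inv_cancel]⟩
        invFun := fun y => ⟨(y : ↥Y), (y : ↥Y).2, fun r hr => by
          obtain ⟨k, rfl⟩ := mem_zpowers_iff.mp hr
          have h1 : φ a ((y : ↥Y) : V) = ((y : ↥Y) : V) := mul_inv_eq_one.mp y.2
          have h2 : a ∈ ker φ (zpowers ((y : ↥Y) : V)) := fun s hs => by
            obtain ⟨j, rfl⟩ := mem_zpowers_iff.mp hs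
            rw [map_zpow, h1]
          exact (ker φ _).zpow_mem h2 k _ (mem_zpowers _)⟩
        left_inv := fun y => rfl
        right_inv := fun y => rfl }
  rw [hfixker, ← card_mul_index T.ker, mul_comm p, index_ker]
  refine Nat.mul_lt_mul_of_pos_left ?_ Nat.card_pos
  by_contra hle
  push Not at hle
  -- `a` fixes the image
  have hTfix : ∀ t ∈ T.range, φ a t = t := by
    intro t ht
    have hZ : ∀ s ∈ T.range, ∀ k : ℕ, φ (a ^ k) s ∈ T.range := by
      rintro _ ⟨y, rfl⟩ k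
      refine ⟨⟨φ (a ^ k) (y : V), ?_⟩, ?_⟩
      · clear hle
        induction k with
        | zero => simp
        | succ k ih => rw [pow_succ', map_mul, MulAut.mul_apply]; exact haY _ ih
      · change φ a (φ (a ^ k) (y : V)) * (φ (a ^ k) (y : V))⁻¹ = φ (a ^ k) (φ a (y : V) * (y : V)⁻¹)
        rw [map_mul (φ (a ^ k)), map_inv (φ (a ^ k)), apply_apply, apply_apply, ← pow_succ', ← pow_succ]
    have hpg : IsPGroup p ↥(zpowers a) := fun x => ⟨1, by
      obtain ⟨x, hx⟩ := x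
      obtain ⟨k, rfl⟩ := mem_zpowers_iff.mp hx
      refine Subtype.ext ?_
      rw [pow_one, SubgroupClass.coe_pow, OneMemClass.coe_one, ← zpow_natCast, ← zpow_mul, mul_comm,
        zpow_mul, zpow_natCast, hap, one_zpow]⟩
    have hzT : ∀ r : ↥(zpowers a), ∀ s ∈ T.range, φ (r : R) s ∈ T.range := by
      rintro ⟨r, hr⟩ s hs
      obtain ⟨k, -, rfl⟩ := (mem_powers_iff_mem_range_orderOf.mp
        ((isOfFinOrder_of_finite a).mem_powers_iff_mem_zpowers.mpr hr) |> Finset.mem_image.mp)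
      exact hZ s hs k
    let : MulAction ↥(zpowers a) ↥T.range :=
      { smul := fun r s => ⟨φ (r : R) (s : V), hzT r s s.2⟩
        one_smul := fun s => Subtype.ext (by change φ 1 (s : V) = _; simp)
        mul_smul := fun r r' s => Subtype.ext (by
          change φ ((r : R) * r') (s : V) = φ (r : R) (φ (r' : R) (s : V))
          rw [apply_apply]) }
    have hmod := hpg.card_modEq_card_fixedPoints ↥T.range
    have h1 : (1 : ↥T.range) ∈ MulAction.fixedPoints ↥(zpowers a) ↥T.range := fun r =>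
      Subtype.ext (by change φ (r : R) 1 = 1; simp)
    rcases Nat.eq_zero_or_pos (Nat.card ↥T.range - 1) with h0 | h0
    · have : Nat.card ↥T.range = 1 := by have := Nat.card_pos (α := ↥T.range); omega
      rw [Subgroup.card_eq_one.mp this, mem_bot] at ht
      rw [ht, map_one]
    have hTc : Nat.card ↥T.range = p := by
      have hd : ∃ j, Nat.card ↥T.range = p ^ j := by
        have hTp : IsPGroup p ↥T.range := fun s => ⟨1, Subtype.ext (by simpa using hV (s : V))⟩
        exact hTp.exists_card_eq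
      obtain ⟨j, hj⟩ := hd
      rcases j with _ | _ | j
      · rw [hj] at h0; simp at h0
      · simpa using hj
      · have : p ^ 2 ≤ p ^ (j + 1 + 1) := Nat.pow_le_pow_right hp'.pos (by omega)
        have h4 : p < p ^ 2 := by
          calc p = p ^ 1 := (pow_one p).symm
            _ < p ^ 2 := Nat.pow_lt_pow_right hp'.one_lt (by norm_num)
        omega
    have h2 : MulAction.fixedPoints ↥(zpowers a) ↥T.range = Set.univ := by
      refine Set.eq_of_subset_of_ncard_le (Set.subset_univ _) ?_ (Set.toFinite _)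
      rw [Set.ncard_univ, ← Nat.card_coe_set_eq, hTc]
      have hpos : 0 < Nat.card (MulAction.fixedPoints ↥(zpowers a) ↥T.range) :=
        Nat.card_pos_iff.mpr ⟨⟨⟨1, h1⟩⟩, inferInstance⟩
      rw [hTc] at hmod
      have hdvd : p ∣ Nat.card (MulAction.fixedPoints ↥(zpowers a) ↥T.range) :=
        (Nat.modEq_zero_iff_dvd).mp (hmod.symm.trans (Nat.modEq_zero_iff_dvd.mpr dvd_rfl))
      exact Nat.le_of_dvd hpos hdvd
    exact congrArg Subtype.val
      ((h2.symm ▸ Set.mem_univ (⟨t, ht⟩ : ↥T.range) :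
        (⟨t, ht⟩ : ↥T.range) ∈ MulAction.fixedPoints ↥(zpowers a) ↥T.range) ⟨a, mem_zpowers a⟩)
  have hit : ∀ y ∈ Y, ∀ i : ℕ, φ (a ^ i) y = y * (φ a y * y⁻¹) ^ i := by
    intro y hy i
    induction i with
    | zero => simp
    | succ i ih =>
      rw [pow_succ', map_mul φ, MulAut.mul_apply, ih, map_mul, map_pow, hTfix (φ a y * y⁻¹) ⟨⟨y, hy⟩, rfl⟩, pow_succ,
        mul_comm ((φ a y * y⁻¹) ^ i), ← mul_assoc]
      congr 1
      rw [mul_comm y, inv_mul_cancel_right]
  let Nm : V → V := fun y => ∏ i ∈ Finset.range p, φ (a ^ i) y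
  -- the sum over the conjugates of the norm
  have hid : ∀ y ∈ Y, ∏ u : ↥U, φ (u : R) (Nm (φ (u : R)⁻¹ y)) = y ^ Nat.card ↥U := by
    intro y hy
    simp only [Nm, map_prod, apply_apply]
    rw [Finset.prod_comm, Finset.prod_eq_single 0]
    · simp [Nat.card_eq_fintype_card]
    · intro i hi hi0
      rw [Finset.mem_range] at hi
      have hconj : ∀ (j : ℕ), ∀ u ∈ U, a ^ j * u * (a ^ j)⁻¹ ∈ U := by
        intro j
        induction j with
        | zero => simp
        | succ j ih =>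
          intro u hu
          have := haU _ (ih u hu)
          rw [pow_succ']
          convert this using 1
          group
      let e : ↥U → ↥U := fun u => ⟨(u : R) * (a ^ i * (u : R)⁻¹ * (a ^ i)⁻¹),
        U.mul_mem u.2 (hconj i _ (U.inv_mem u.2))⟩
      have he : Function.Bijective e := by
        refine Finite.injective_iff_bijective.mp fun u v huv => ?_
        have huv' : (u : R) * (a ^ i * (u : R)⁻¹ * (a ^ i)⁻¹) = (v : R) * (a ^ i * (v : R)⁻¹ * (a ^ i)⁻¹) :=
          congrArg Subtype.val huv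
        set w : R := (v : R)⁻¹ * u with hw
        have hwU : w ∈ U := U.mul_mem (U.inv_mem v.2) u.2
        have h1 : a ^ i * w * (a ^ i)⁻¹ = w := by
          have h2 : (v : R)⁻¹ * u * (a ^ i * (u : R)⁻¹ * (a ^ i)⁻¹) = a ^ i * (v : R)⁻¹ * (a ^ i)⁻¹ := by
            rw [mul_assoc, huv', inv_mul_cancel_left]
          calc a ^ i * w * (a ^ i)⁻¹ = (a ^ i * (v : R)⁻¹ * (a ^ i)⁻¹) * (a ^ i * u * (a ^ i)⁻¹) := by
                rw [hw]; group
            _ = (v : R)⁻¹ * u * (a ^ i * (u : R)⁻¹ * (a ^ i)⁻¹) * (a ^ i * u * (a ^ i)⁻¹) := by rw [h2]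
            _ = w := by rw [hw]; group
        obtain ⟨k, hk⟩ : ∃ k, (a ^ i) ^ k = a := by
          refine exists_pow_eq_self_of_coprime ?_
          refine Nat.Coprime.coprime_dvd_right (orderOf_dvd_of_pow_eq_one hap) ?_
          exact ((hp'.coprime_iff_not_dvd).mpr fun hd => absurd (Nat.le_of_dvd (by omega) hd) (by omega)).symm
        have hc : Commute (a ^ i) w := mul_inv_eq_iff_eq_mul.mp h1
        have hc' := hc.pow_left k
        rw [hk] at hc'
        have hw1 := hfree w hwU (by rw [hc'.eq, mul_inv_cancel_right])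
        exact Subtype.ext (inv_mul_eq_one.mp hw1).symm
      have hrw : ∀ u : ↥U, φ ((u : R) * a ^ i * (u : R)⁻¹) y = φ ((e u : R)) (φ (a ^ i) y) := by
        intro u
        rw [apply_apply]
        congr 2
        simp [e, mul_assoc]
      simp only [← mul_assoc]
      rw [Finset.prod_congr rfl fun u _ => hrw u, he.prod_comp (fun w : ↥U => φ (w : R) (φ (a ^ i) y))]
      have hyi : φ (a ^ i) y ∈ Y := by
        clear hi hi0 e he hrw
        induction i with
        | zero => simpa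
        | succ i ih => rw [pow_succ', map_mul φ, MulAut.mul_apply]; exact haY _ ih
      refine hfix _ (Y.prod_mem fun u _ => hUY u u.2 _ hyi) fun w hw => ?_
      rw [map_prod]
      refine Fintype.prod_equiv (Equiv.mulLeft (⟨w, hw⟩ : ↥U)) _ _ fun u => ?_
      rw [apply_apply]; rfl
    · intro h
      exact absurd (Finset.mem_range.mpr hp'.pos) h
  have hpm : ¬ p ∣ Nat.card ↥U := by
    intro hd
    obtain ⟨u, hu⟩ := exists_prime_orderOf_dvd_card' p hd
    have h1 : orderOf u ∣ q := orderOf_dvd_of_pow_eq_one (Subtype.ext (hUq u u.2))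
    rw [hu] at h1
    exact hpq ((Nat.prime_dvd_prime_iff_eq hp' hq.out).mp h1)
  have hzero : (∀ y ∈ Y, Nm y = 1) → False := by
    intro hN
    refine hY (eq_bot_iff.mpr fun y hy => mem_bot.mpr ?_)
    have h1 := hid y hy
    rw [Finset.prod_eq_one (fun u _ => by rw [hN _ (hUY _ (U.inv_mem u.2) y hy), map_one])] at h1
    refine orderOf_eq_one_iff.mp (Nat.eq_one_of_dvd_coprimes ((hp'.coprime_iff_not_dvd).mpr hpm) ?_ ?_)
    · exact orderOf_dvd_of_pow_eq_one (hV y)
    · exact orderOf_dvd_of_pow_eq_one h1.symm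
  by_cases hp2 : p = 2
  · subst hp2
    have hTall : ∀ t ∈ T.range, t = 1 := by
      intro t ht
      by_contra ht1
      have htY : t ∈ Y := by
        obtain ⟨y, rfl⟩ := ht
        exact Y.mul_mem (haY _ y.2) (Y.inv_mem y.2)
      have htwo : ∀ s ∈ T.range, s = 1 ∨ s = t := by
        intro s hs
        by_contra hcon
        push Not at hcon
        have : 3 ≤ Nat.card ↥T.range := by
          have h3 : ({1, t, s} : Set V).ncard = 3 :=
            Set.ncard_eq_three.mpr ⟨1, t, s, Ne.symm ht1, Ne.symm hcon.1, Ne.symm hcon.2, rfl⟩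
          rw [← h3, ← SetLike.coe_sort_coe, Nat.card_coe_set_eq]
          refine Set.ncard_le_ncard ?_ (Set.toFinite _)
          rintro v (rfl | rfl | rfl)
          exacts [one_mem _, ht, hs]
        omega
      refine ht1 (hfix t htY fun u hu => ?_)
      have hσ : a * u * a⁻¹ = u⁻¹ := by
        have ha2 : a * a = 1 := by rw [← pow_two, hap]
        have hw : u * (a * u * a⁻¹) ∈ U := U.mul_mem hu (haU u hu)
        have h1 := hfree _ hw (by
          calc a * (u * (a * u * a⁻¹)) * a⁻¹ = (a * u * a⁻¹) * ((a * a) * u * (a * a)⁻¹) := by group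
            _ = u * (a * u * a⁻¹) := by rw [ha2]; simpa using hUc _ (haU u hu) u hu)
        exact eq_inv_of_mul_eq_one_right h1
      have hat : φ a t = t := hTfix t ht
      have hau : φ a (φ u t) = φ u⁻¹ t := by
        rw [apply_apply, show a * u = u⁻¹ * a by rw [← hσ]; group, ← apply_apply, hat]
      have hmem : φ u⁻¹ t * (φ u t)⁻¹ ∈ T.range := ⟨⟨φ u t, hUY u hu t htY⟩, by
        change φ a (φ u t) * (φ u t)⁻¹ = _; rw [hau]⟩
      have hfixpow : ∀ n : ℕ, n.Coprime q → φ (u ^ n) t = t → φ u t = t := by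
        intro n hn h
        obtain ⟨k, hk⟩ := exists_pow_eq_self_of_coprime
          (hn.coprime_dvd_right (orderOf_dvd_of_pow_eq_one (hUq u hu)))
        have hk' : u ^ n ∈ ker φ (zpowers t) := fun s hs => by
          obtain ⟨j, rfl⟩ := mem_zpowers_iff.mp hs
          rw [map_zpow, h]
        rw [← hk]
        exact (ker φ _).pow_mem hk' k t (mem_zpowers t)
      rcases htwo _ hmem with h | h
      · refine hfixpow 2 ((Nat.coprime_primes Nat.prime_two hq.out).mpr hpq) ?_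
        have h' := congrArg (φ u) (mul_inv_eq_one.mp h)
        rw [apply_apply, apply_apply, mul_inv_cancel, map_one, MulAut.one_apply] at h'
        rw [pow_two]; exact h'.symm
      · refine hfixpow 3 ((Nat.coprime_primes Nat.prime_three hq.out).mpr (fun e => h23 rfl e.symm)) ?_
        have h' : φ u⁻¹ t = t * φ u t := mul_inv_eq_iff_eq_mul.mp h
        have h1 : t = φ u t * φ (u * u) t := by
          have := congrArg (φ u) h'
          rwa [map_mul (φ u), apply_apply, apply_apply, mul_inv_cancel, map_one, MulAut.one_apply] at this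
        have h2 : φ u t = φ (u * u) t * φ (u * (u * u)) t := by
          have := congrArg (φ u) h1
          rwa [map_mul (φ u), apply_apply, apply_apply] at this
        have hsq : φ (u * u) t * φ (u * u) t = 1 := by rw [← pow_two]; exact hV _
        have h3 : t = φ (u * (u * u)) t := by
          conv_lhs => rw [h1, h2]
          rw [mul_comm (φ (u * u) t) (φ (u * (u * u)) t), mul_assoc, hsq, mul_one]
        rw [pow_succ', pow_two]
        exact h3.symm
    refine hzero fun y hy => ?_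
    have h1 := hTall _ ⟨⟨y, hy⟩, rfl⟩
    change φ a y * y⁻¹ = 1 at h1
    simp only [Nm, Finset.prod_range_succ, Finset.prod_range_zero, pow_zero, map_one, MulAut.one_apply,
      one_mul, pow_one, mul_inv_eq_one.mp h1]
    rw [← pow_two]; exact hV y
  · refine hzero fun y hy => ?_
    simp only [Nm, hit y hy]
    rw [Finset.prod_mul_distrib, Finset.prod_const, Finset.card_range, hV, one_mul, Finset.prod_pow_eq_pow_sum]
    have hdvd : p ∣ ∑ i ∈ Finset.range p, i := by
      have h2 := Finset.sum_range_id_mul_two p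
      have h3 : p ∣ (∑ i ∈ Finset.range p, i) * 2 := h2 ▸ Dvd.intro _ rfl
      exact ((Nat.coprime_primes hp' Nat.prime_two).mpr hp2).dvd_of_dvd_mul_right h3
    obtain ⟨c, hc⟩ := hdvd
    rw [hc, pow_mul, hV, one_pow]

/-- No offenders: `|A : kerA| · |C_S(A)| ≤ |S|`, strictly if `A` acts nontrivially. -/
theorem no_offender [Finite R] [Finite V] [hp : Fact p.Prime] [hq : Fact q.Prime] (hpq : p ≠ q)
    (h23 : p = 2 → q ≠ 3) {Q : Subgroup R} :
    ∀ {A : Subgroup R} (D : Data φ p q A Q) (S : Subgroup V) (_ : Invariant φ A S) (hSQ : Invariant φ Q S),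
      (D.kerA S hSQ).relIndex A * Nat.card ↥(fix φ A S) ≤ Nat.card ↥S ∧
      (D.kerA S hSQ ≠ A → (D.kerA S hSQ).relIndex A * Nat.card ↥(fix φ A S) < Nat.card ↥S) := by
  classical
  suffices ∀ n : ℕ, ∀ (A : Subgroup R) (D : Data φ p q A Q) (S : Subgroup V)
      (_ : Invariant φ A S) (hSQ : Invariant φ Q S), Nat.card ↥A + Nat.card ↥S = n →
      (D.kerA S hSQ).relIndex A * Nat.card ↥(fix φ A S) ≤ Nat.card ↥S ∧
      (D.kerA S hSQ ≠ A → (D.kerA S hSQ).relIndex A * Nat.card ↥(fix φ A S) < Nat.card ↥S) by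
    intro A D S h1 h2; exact this _ A D S h1 h2 rfl
  intro n
  induction n using Nat.strong_induction_on with
  | _ n ih =>
  intro A D S hSA hSQ hn
  by_cases hker : D.kerA S hSQ = A
  · refine ⟨?_, fun h => absurd hker h⟩
    rw [hker, relIndex_self, one_mul]
    exact card_le_of_le (fix_le A S)
  suffices hlt : (D.kerA S hSQ).relIndex A * Nat.card ↥(fix φ A S) < Nat.card ↥S from ⟨hlt.le, fun _ => hlt⟩
  have hcomm : ∀ x ∈ A, ∀ y ∈ A, x * y = y * x := fun x hx y hy => Components.Hyperplane.mem_comm D.hA hx hy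
  -- the elements of `Q` commuting with `A` on `S`
  let Q1 : Subgroup R :=
    { carrier := {u | u ∈ Q ∧ ∀ a ∈ A, a * u * a⁻¹ * u⁻¹ ∈ ker φ S}
      one_mem' := ⟨Q.one_mem, fun a _ => by simp⟩
      mul_mem' := fun {u v} hu hv => ⟨Q.mul_mem hu.1 hv.1, fun a ha => by
        rw [D.com_mul ha hu.1 hv.1]; exact mul_mem (hu.2 a ha) (hv.2 a ha)⟩
      inv_mem' := fun {u} hu => ⟨Q.inv_mem hu.1, fun a ha => by
        have h := D.com_mul ha hu.1 (Q.inv_mem hu.1)
        simp only [mul_inv_cancel, mul_one, inv_one] at h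
        rw [eq_inv_of_mul_eq_one_right h.symm]
        exact inv_mem (hu.2 a ha)⟩ }
  have hQ1 : ¬ Q ≤ Q1 := fun h => hker (le_antisymm (fun a ha => ha.1)
    fun a ha => ⟨ha, fun u hu => (h hu).2 a ha⟩)
  -- the hyperplane
  obtain ⟨B, hBA, hBi, u, huQ, huB, huA⟩ : ∃ B ≤ A, B.relIndex A = p ∧ ∃ u ∈ Q,
      (∀ b ∈ B, b * u = u * b) ∧ u ∉ Q1 := by
    by_cases hA2 : p ^ 2 ≤ Nat.card ↥A
    · by_contra hcon
      push Not at hcon
      refine hQ1 ?_
      rw [Components.Hyperplane.eq_iSup_hyperplane D.hA hA2 D.hQp D.hAQ]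
      refine iSup_le fun B => ?_
      rintro u ⟨hu, huc⟩
      exact hcon _ B.2.1 B.2.2 u hu fun b hb => mem_centralizer_iff.mp huc b hb
    · obtain ⟨k, hk⟩ := (Components.Hyperplane.isPGroup D.hA).exists_card_eq
      obtain ⟨u, hu, hu1⟩ := Set.not_subset.mp hQ1
      refine ⟨⊥, bot_le, ?_, u, hu, fun b hb => by rw [mem_bot.mp hb]; simp, hu1⟩
      rw [relIndex_bot_left, hk]
      rcases k with _ | _ | k
      · refine absurd ?_ hker
        rw [pow_zero, Subgroup.card_eq_one] at hk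
        exact le_antisymm (fun a ha => ha.1) fun a ha => by
          rw [hk, mem_bot] at ha; rw [ha]; exact one_mem _
      · rw [zero_add, pow_one]
      · exact absurd (hk ▸ Nat.pow_le_pow_right hp.out.pos (by omega)) hA2
  obtain ⟨a0, ha0, ha0u⟩ : ∃ a ∈ A, a * u * a⁻¹ * u⁻¹ ∉ ker φ S := by
    by_contra hcon
    push Not at hcon
    exact huA ⟨huQ, hcon⟩
  have ha0B : a0 ∉ B := fun h => ha0u (by
    rw [huB a0 h, mul_inv_cancel_right, mul_inv_cancel]; exact one_mem _)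
  -- the group `U`
  let U : Subgroup R :=
    { carrier := {w | ∃ v ∈ Q, (∀ b ∈ B, b * v = v * b) ∧ a0 * v * a0⁻¹ * v⁻¹ = w}
      one_mem' := ⟨1, Q.one_mem, by simp, by simp⟩
      mul_mem' := by
        rintro _ _ ⟨v, hv, hvB, rfl⟩ ⟨v', hv', hvB', rfl⟩
        refine ⟨v * v', Q.mul_mem hv hv', fun b hb => ?_, D.com_mul ha0 hv hv'⟩
        rw [← mul_assoc, hvB b hb, mul_assoc, hvB' b hb, mul_assoc]
      inv_mem' := by
        rintro _ ⟨v, hv, hvB, rfl⟩
        refine ⟨v⁻¹, Q.inv_mem hv, fun b hb => (show Commute b v from hvB b hb).inv_right.eq, ?_⟩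
        have h := D.com_mul ha0 hv (Q.inv_mem hv)
        simp only [mul_inv_cancel, mul_one, inv_one] at h
        exact eq_inv_of_mul_eq_one_right h.symm }
  have hUQ : U ≤ Q := by rintro _ ⟨v, hv, -, rfl⟩; exact D.com_mem ha0 hv
  have hUA : ∀ a ∈ A, ∀ w ∈ U, a * w * a⁻¹ ∈ U := by
    rintro a ha _ ⟨v, hv, hvB, rfl⟩
    refine ⟨a * v * a⁻¹, D.conj_mem ha hv, fun b hb => ?_, ?_⟩
    · calc b * (a * v * a⁻¹) = (b * a) * v * a⁻¹ := by group
        _ = (a * b) * v * a⁻¹ := by rw [hcomm b (hBA hb) a ha]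
        _ = a * (b * v) * a⁻¹ := by group
        _ = a * (v * b) * a⁻¹ := by rw [hvB b hb]
        _ = a * v * (b * a⁻¹) := by group
        _ = a * v * (a⁻¹ * b) := by rw [hcomm b (hBA hb) _ (A.inv_mem ha)]
        _ = _ := by group
    · calc a0 * (a * v * a⁻¹) * a0⁻¹ * (a * v * a⁻¹)⁻¹
          = (a0 * a) * v * (a0 * a)⁻¹ * (a * v * a⁻¹)⁻¹ := by group
        _ = (a * a0) * v * (a * a0)⁻¹ * (a * v * a⁻¹)⁻¹ := by rw [hcomm a0 ha0 a ha]
        _ = _ := by group
  have hUB : ∀ b ∈ B, ∀ w ∈ U, b * w = w * b := by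
    rintro b hb _ ⟨v, hv, hvB, rfl⟩
    have hba : Commute b a0 := hcomm b (hBA hb) a0 ha0
    exact (((hba.mul_right (hvB b hb)).mul_right hba.inv_right).mul_right
      (show Commute b v from hvB b hb).inv_right).eq
  have hfree : ∀ w ∈ U, a0 * w * a0⁻¹ = w → w = 1 := by
    rintro _ ⟨v, hv, -, rfl⟩ hw
    set w := a0 * v * a0⁻¹ * v⁻¹ with hwdef
    have hcw : Commute a0 w := mul_inv_eq_iff_eq_mul.mp hw
    have hit : ∀ i : ℕ, a0 ^ i * v * (a0 ^ i)⁻¹ = w ^ i * v := by
      intro i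
      induction i with
      | zero => simp
      | succ i ih =>
        calc a0 ^ (i + 1) * v * (a0 ^ (i + 1))⁻¹ = a0 * (a0 ^ i * v * (a0 ^ i)⁻¹) * a0⁻¹ := by
              rw [pow_succ']; group
          _ = a0 * (w ^ i * v) * a0⁻¹ := by rw [ih]
          _ = (a0 * w ^ i) * v * a0⁻¹ := by group
          _ = (w ^ i * a0) * v * a0⁻¹ := by rw [(hcw.pow_right i).eq]
          _ = w ^ i * (a0 * v * a0⁻¹) := by group
          _ = w ^ i * (w * v) := by rw [hwdef, inv_mul_cancel_right]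
          _ = w ^ (i + 1) * v := by rw [pow_succ]; exact (mul_assoc _ _ _).symm
    have h1 := hit p
    rw [D.hA.2 a0 ha0] at h1
    simp at h1
    have hwq : w ^ q = 1 := D.hQe w (D.com_mem ha0 hv)
    exact orderOf_eq_one_iff.mp (Nat.eq_one_of_dvd_coprimes
      ((Nat.coprime_primes hp.out hq.out).mpr hpq) (orderOf_dvd_of_pow_eq_one h1)
      (orderOf_dvd_of_pow_eq_one hwq))
  have hu1 : a0 * u * a0⁻¹ * u⁻¹ ∈ U := ⟨u, huQ, huB, rfl⟩
  have hUc : ∀ x ∈ U, ∀ y ∈ U, x * y = y * x := fun x hx y hy => D.hQc x (hUQ hx) y (hUQ hy)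
  -- the decomposition of `S`
  have : Fintype ↥U := Fintype.ofFinite _
  set m := Nat.card ↥U with hm
  let P : V →* V :=
    { toFun := fun s => ∏ w : ↥U, φ (w : R) s
      map_one' := by simp
      map_mul' := fun x y => by simp [Finset.prod_mul_distrib] }
  set W := fix φ U S with hW
  set X := S ⊓ P.ker with hX
  have hPfix : ∀ s : V, ∀ w ∈ U, φ w (P s) = P s := by
    intro s w hw
    change φ w (∏ w : ↥U, φ (w : R) s) = _
    rw [map_prod]
    refine Fintype.prod_equiv (Equiv.mulLeft (⟨w, hw⟩ : ↥U)) _ _ fun x => ?_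
    rw [apply_apply]; rfl
  have hPW : ∀ s ∈ W, P s = s ^ m := by
    intro s hs
    change ∏ w : ↥U, φ (w : R) s = _
    rw [Finset.prod_congr rfl fun (w : ↥U) _ => hs.2 (w : R) w.2, Finset.prod_const, Finset.card_univ,
      hm, Nat.card_eq_fintype_card]
  have hSU : Invariant φ U S := fun w hw => hSQ w (hUQ hw)
  have hmcop : m.Coprime p :=
    ((hp.out.coprime_iff_not_dvd).mpr fun h => D.hQp (h.trans (card_dvd_of_le hUQ))).symm
  obtain ⟨j, hj⟩ : ∃ j : ℤ, ∀ v : V, (v ^ m) ^ j = v := by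
    refine ⟨Nat.gcdA m p, fun v => ?_⟩
    have hb := Nat.gcd_eq_gcd_ab m p
    rw [hmcop.gcd_eq_one] at hb
    rw [← zpow_natCast, ← zpow_mul]
    conv_rhs => rw [← zpow_one v]
    push_cast at hb
    rw [hb, zpow_add, zpow_mul v (p : ℤ), zpow_natCast, D.hV, one_zpow, mul_one]
  have hdis : W ⊓ X = ⊥ := by
    refine eq_bot_iff.mpr fun s hs => mem_bot.mpr ?_
    have h1 := hPW s hs.1
    rw [show P s = 1 from hs.2.2] at h1
    rw [← hj s, ← h1, one_zpow]
  have hsplit : ∀ s ∈ S, (P s) ^ j ∈ W ∧ s * ((P s) ^ j)⁻¹ ∈ X := by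
    intro s hs
    have hPS : P s ∈ S := S.prod_mem fun w _ => hSU _ w.2 s hs
    have hw : (P s) ^ j ∈ W := W.zpow_mem ⟨hPS, hPfix s⟩ j
    refine ⟨hw, S.mul_mem hs (S.inv_mem hw.1), ?_⟩
    have h1 : P ((P s) ^ j) = P s := by
      rw [map_zpow, hPW _ ⟨hPS, hPfix s⟩, hj]
    change P (s * ((P s) ^ j)⁻¹) = 1
    rw [map_mul, map_inv, h1, mul_inv_cancel]
  have hequiv : ∀ a ∈ A, ∀ s : V, φ a (P s) = P (φ a s) := by
    intro a ha s
    change φ a (∏ w : ↥U, φ (w : R) s) = ∏ w : ↥U, φ (w : R) (φ a s)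
    rw [map_prod]
    let e : ↥U → ↥U := fun w => ⟨a * w * a⁻¹, hUA a ha w w.2⟩
    have he : Function.Bijective e := Finite.injective_iff_bijective.mp fun x y hxy => Subtype.ext (by
      simpa [e] using congrArg Subtype.val hxy)
    rw [← he.prod_comp (fun w : ↥U => φ (w : R) (φ a s))]
    refine Finset.prod_congr rfl fun w _ => ?_
    simp only [e, apply_apply]
    congr 2
    group
  have hWA : Invariant φ A W := by
    intro a ha s hs
    refine ⟨hSA a ha s hs.1, fun w hw => ?_⟩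
    rw [apply_apply, show w * a = a * (a⁻¹ * w * a⁻¹⁻¹) by group, ← apply_apply,
      hs.2 _ (hUA a⁻¹ (A.inv_mem ha) w hw)]
  have hXA : Invariant φ A X := fun a ha s hs => ⟨hSA a ha s hs.1, by
    change P (φ a s) = 1
    rw [← hequiv a ha, show P s = 1 from hs.2, map_one]⟩
  have hWQ : Invariant φ Q W := by
    intro r hr s hs
    refine ⟨hSQ r hr s hs.1, fun w hw => ?_⟩
    rw [apply_apply, D.hQc w (hUQ hw) r hr, ← apply_apply, hs.2 w hw]
  have hXQ : Invariant φ Q X := by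
    intro r hr s hs
    refine ⟨hSQ r hr s hs.1, ?_⟩
    change ∏ w : ↥U, φ (w : R) (φ r s) = 1
    rw [Finset.prod_congr rfl fun (w : ↥U) _ => show φ (w : R) (φ r s) = φ r (φ (w : R) s) by
      rw [apply_apply, apply_apply, D.hQc _ (hUQ w.2) r hr], ← map_prod,
      show ∏ w : ↥U, φ (w : R) s = 1 from hs.2, map_one]
  have hcard : ∀ T : Subgroup V, T ≤ S → (∀ t ∈ T, (P t) ^ j ∈ T) →
      Nat.card ↥T = Nat.card ↥(T ⊓ W) * Nat.card ↥(T ⊓ X) := by
    intro T hTS hT
    rw [← Nat.card_prod]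
    refine (Nat.card_eq_of_bijective (fun x : ↥(T ⊓ W) × ↥(T ⊓ X) =>
      (⟨(x.1 : V) * x.2, T.mul_mem x.1.2.1 x.2.2.1⟩ : ↥T)) ⟨?_, ?_⟩).symm
    · rintro ⟨w, x⟩ ⟨w', x'⟩ h
      have h' : (w : V) * x = w' * x' := congrArg Subtype.val h
      have h2 : (w' : V)⁻¹ * w ∈ W ⊓ X := by
        refine ⟨W.mul_mem (W.inv_mem w'.2.2) w.2.2, ?_⟩
        have : (w' : V)⁻¹ * w = x' * (x : V)⁻¹ := by
          rw [eq_mul_inv_iff_mul_eq, mul_assoc, h', inv_mul_cancel_left]
        rw [this]; exact X.mul_mem x'.2.2 (X.inv_mem x.2.2)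
      rw [hdis, mem_bot, inv_mul_eq_one] at h2
      rw [h2] at h'
      exact Prod.ext (Subtype.ext h2.symm) (Subtype.ext (mul_left_cancel h'))
    · rintro ⟨t, ht⟩
      obtain ⟨h1, h2⟩ := hsplit t (hTS ht)
      exact ⟨⟨⟨_, hT t ht, h1⟩, ⟨_, T.mul_mem ht (T.inv_mem (hT t ht)), h2⟩⟩,
        Subtype.ext (mul_inv_cancel_comm_assoc _ _)⟩
  have hScard : Nat.card ↥S = Nat.card ↥W * Nat.card ↥X := by
    rw [hcard S le_rfl fun t ht => (hsplit t ht).1.1, inf_eq_right.mpr (fix_le U S),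
      inf_eq_right.mpr (inf_le_left : X ≤ S)]
  have hFcard : Nat.card ↥(fix φ A S) = Nat.card ↥(fix φ A W) * Nat.card ↥(fix φ A X) := by
    have eW : fix φ A S ⊓ W = fix φ A W := le_antisymm (fun s hs => ⟨hs.2, hs.1.2⟩)
      fun s hs => ⟨⟨hs.1.1, hs.2⟩, hs.1⟩
    have eX : fix φ A S ⊓ X = fix φ A X := le_antisymm (fun s hs => ⟨hs.2, hs.1.2⟩)
      fun s hs => ⟨⟨hs.1.1, hs.2⟩, hs.1⟩
    rw [hcard _ (fix_le A S) (fun t ht => ?_), eW, eX]
    refine ⟨(hsplit t ht.1).1.1, fun a ha => ?_⟩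
    rw [map_zpow, hequiv a ha, ht.2 a ha]
  have hkW : a0 * u * a0⁻¹ * u⁻¹ ∈ ker φ W := fun s hs => hs.2 _ hu1
  have hkX : a0 * u * a0⁻¹ * u⁻¹ ∉ ker φ X := by
    intro h
    refine ha0u fun s hs => ?_
    obtain ⟨h1, h2⟩ := hsplit s hs
    conv_lhs => rw [← mul_inv_cancel_comm_assoc ((P s) ^ j) s]
    rw [map_mul, hkW _ h1, h _ h2, mul_inv_cancel_comm_assoc]
  have hXne : X ≠ ⊥ := fun h => hkX fun s hs => by rw [h, mem_bot] at hs; rw [hs, map_one]
  have hWlt : Nat.card ↥W < Nat.card ↥S := by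
    rw [hScard]
    exact lt_mul_of_one_lt_right Nat.card_pos ((one_lt_card_iff_ne_bot _).mpr hXne)
  -- on `W`
  obtain ⟨ihW, -⟩ := ih _ (by omega) A D W hWA hWQ rfl
  -- on `X`
  have hBlt : Nat.card ↥B < Nat.card ↥A := by
    have h := relIndex_mul_relIndex _ _ _ (bot_le : ⊥ ≤ B) hBA
    rw [relIndex_bot_left, relIndex_bot_left, hBi] at h
    rw [← h]
    exact lt_mul_of_one_lt_right Nat.card_pos hp.out.one_lt
  have hXle : Nat.card ↥X ≤ Nat.card ↥S := card_le_of_le inf_le_left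
  obtain ⟨ihX, -⟩ := ih _ (by omega) B (D.mono hBA) X (fun b hb => hXA b (hBA hb)) hXQ rfl
  have hKB : D.kerA X hXQ ≤ B := by
    intro a ha
    by_contra haB
    have hgen : B ⊔ zpowers a = A := by
      refine le_antisymm (sup_le hBA (zpowers_le.mpr ha.1)) ?_
      rw [← relIndex_eq_one]
      have h := relIndex_mul_relIndex _ _ _ (le_sup_left : B ≤ B ⊔ zpowers a)
        (sup_le hBA (zpowers_le.mpr ha.1))
      rw [hBi] at h
      rcases (Nat.dvd_prime hp.out).mp (Dvd.intro _ h : B.relIndex (B ⊔ zpowers a) ∣ p) with h1 | h1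
      · exact absurd ((relIndex_eq_one.mp h1) (mem_sup_right (mem_zpowers a))) haB
      · rw [h1] at h
        exact Nat.eq_of_mul_eq_mul_left hp.out.pos (h.trans (mul_one p).symm)
    have hnB : zpowers a ≤ normalizer (B : Set R) := by
      refine (zpowers_le.mpr ?_).trans (centralizer_le_normalizer _)
      exact mem_centralizer_iff.mpr fun b hb => hcomm b (hBA hb) a ha.1
    obtain ⟨b, hb, c, hc, hbc⟩ := (Coprime.mem_sup_of_le_normalizer hnB).mp (hgen.symm ▸ ha0)
    refine hkX ?_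
    have hck := ((D.kerA X hXQ).zpow_mem ha) (mem_zpowers_iff.mp hc).choose
    rw [(mem_zpowers_iff.mp hc).choose_spec] at hck
    have h1 := hck.2 u huQ
    rw [← hbc]
    have hca : c ∈ A := zpowers_le.mpr ha.1 hc
    have h3 : b * c * u * (b * c)⁻¹ * u⁻¹ = c * u * c⁻¹ * u⁻¹ := by
      rw [hcomm b (hBA hb) c hca]
      calc c * b * u * (c * b)⁻¹ * u⁻¹ = c * (b * u) * b⁻¹ * c⁻¹ * u⁻¹ := by group
        _ = _ := by rw [huB b hb]; group
    rw [h3]
    exact h1
  have hK' : (D.mono hBA).kerA X hXQ = D.kerA X hXQ :=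
    le_antisymm (fun a ha => ⟨hBA ha.1, ha.2⟩) fun a ha => ⟨hKB ha, ha.2⟩
  rw [hK'] at ihX
  have hindX : (D.kerA X hXQ).relIndex A = (D.kerA X hXQ).relIndex B * p := by
    calc _ = (D.kerA X hXQ).relIndex B * B.relIndex A := (relIndex_mul_relIndex _ _ _ hKB hBA).symm
      _ = _ := congrArg _ hBi
  set Y := fix φ B X with hY
  have hYne : Y ≠ ⊥ := by
    intro hbot
    have hBp : IsPGroup p ↥B := (Components.Hyperplane.isPGroup D.hA).to_le hBA
    let : MulAction ↥B ↥X :=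
      { smul := fun r s => ⟨φ (r : R) (s : V), hXA r (hBA r.2) s s.2⟩
        one_smul := fun s => Subtype.ext (by change φ 1 (s : V) = _; simp)
        mul_smul := fun r r' s => Subtype.ext (by
          change φ ((r : R) * r') (s : V) = φ (r : R) (φ (r' : R) (s : V))
          rw [apply_apply]) }
    have hXp : p ∣ Nat.card ↥X := by
      obtain ⟨i, hi⟩ := (show IsPGroup p ↥X from fun s => ⟨1, Subtype.ext (by simpa using D.hV (s : V))⟩).exists_card_eq
      rcases i with _ | i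
      · exact absurd (Subgroup.card_eq_one.mp (by simpa using hi)) hXne
      · rw [hi, pow_succ]; exact dvd_mul_left _ _
    have h1 : (1 : ↥X) ∈ MulAction.fixedPoints ↥B ↥X := fun r => Subtype.ext (by change φ (r : R) 1 = 1; simp)
    obtain ⟨s, hs, hs1⟩ := hBp.exists_fixed_point_of_prime_dvd_card_of_fixed_point ↥X hXp h1
    refine hs1 (Subtype.ext ?_)
    have hsY : (s : V) ∈ Y := ⟨s.2, fun r hr => congrArg Subtype.val (hs ⟨r, hr⟩)⟩
    rw [hbot, mem_bot] at hsY
    exact hsY.symm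
  have hUY : Invariant φ U Y := fun w hw y hy => ⟨hXQ w (hUQ hw) y hy.1, fun b hb => by
    rw [apply_apply, hUB b hb w hw, ← apply_apply, hy.2 b hb]⟩
  have haY : ∀ y ∈ Y, φ a0 y ∈ Y := fun y hy => ⟨hXA a0 ha0 y hy.1, fun b hb => by
    rw [apply_apply, hcomm b (hBA hb) a0 ha0, ← apply_apply, hy.2 b hb]⟩
  have hfixY : ∀ y ∈ Y, (∀ w ∈ U, φ w y = y) → y = 1 := fun y hy h => mem_bot.mp
    (hdis ▸ ⟨⟨hy.1.1, h⟩, hy.1⟩)
  have hkey := mul_card_fix_lt (φ := φ) hpq h23 D.hV (D.hA.2 a0 ha0) (fun w hw => D.hQe w (hUQ hw)) hUc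
    (hUA a0 ha0) hfree hYne hUY haY hfixY
  have hsub : Nat.card ↥(fix φ A X) ≤ Nat.card ↥(fix φ (zpowers a0) Y) :=
    card_le_of_le fun s hs => ⟨⟨hs.1, fun b hb => hs.2 b (hBA hb)⟩,
      fun r hr => hs.2 r (zpowers_le.mpr ha0 hr)⟩
  have hX' : (D.kerA X hXQ).relIndex A * Nat.card ↥(fix φ A X) < Nat.card ↥X := by
    have hpos : 0 < (D.kerA X hXQ).relIndex B := Nat.pos_of_ne_zero index_ne_zero_of_finite
    calc (D.kerA X hXQ).relIndex A * Nat.card ↥(fix φ A X)
        ≤ (D.kerA X hXQ).relIndex B * (p * Nat.card ↥(fix φ (zpowers a0) Y)) := by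
          rw [hindX, mul_assoc]; exact Nat.mul_le_mul_left _ (Nat.mul_le_mul_left _ hsub)
      _ < (D.kerA X hXQ).relIndex B * Nat.card ↥Y := Nat.mul_lt_mul_of_pos_left hkey hpos
      _ ≤ Nat.card ↥X := ihX
  have hKeq : D.kerA W hWQ ⊓ D.kerA X hXQ ≤ D.kerA S hSQ := by
    rintro a ⟨h1, h2⟩
    refine ⟨h1.1, fun w hw s hs => ?_⟩
    obtain ⟨e1, e2⟩ := hsplit s hs
    conv_lhs => rw [← mul_inv_cancel_comm_assoc ((P s) ^ j) s]
    rw [map_mul, h1.2 w hw _ e1, h2.2 w hw _ e2, mul_inv_cancel_comm_assoc]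
  have hrel : (D.kerA S hSQ).relIndex A ≤ (D.kerA W hWQ).relIndex A * (D.kerA X hXQ).relIndex A :=
    (relIndex_le_of_le_left hKeq index_ne_zero_of_finite).trans relIndex_inf_le
  rw [hScard, hFcard]
  calc (D.kerA S hSQ).relIndex A * (Nat.card ↥(fix φ A W) * Nat.card ↥(fix φ A X))
      ≤ ((D.kerA W hWQ).relIndex A * Nat.card ↥(fix φ A W)) *
        ((D.kerA X hXQ).relIndex A * Nat.card ↥(fix φ A X)) := by
        rw [mul_mul_mul_comm]; exact Nat.mul_le_mul_right _ hrel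
    _ ≤ Nat.card ↥W * ((D.kerA X hXQ).relIndex A * Nat.card ↥(fix φ A X)) := Nat.mul_le_mul_right _ ihW
    _ < Nat.card ↥W * Nat.card ↥X := Nat.mul_lt_mul_of_pos_left hX' Nat.card_pos

end Cfsg.Agent.Lib.AutomizerMove.Offender
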